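import Cfsg.Agent.Lib.Spor.HN.SquareCentre.Part0

/-!
The fourth power of `x` is trivial: the assembled checks.
-/

set_option autoImplicit false

namespace CfsgLib.Spor.HN.SquareCentre

open CfsgLib.Spor.TC

theorem steps_ok : cert.SStepsOK 0 230 :=
  steps0

set_option maxRecDepth 100000 in
theorem trace0 : cert.sTraceOK 230 [0, 0, 0, 0] 0x1cc000050000300001 = true := by
  decide +kernel

end CfsgLib.Spor.HN.SquareCentre
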